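import Mathlib
import Cfsg.Agent.Lib.Helper41.CS3.GoodDefs

/-!
# CS3 (S4284), part GOOD: package `[CONJ]`

If `S` normalizes `C(g a g⁻¹)` then the conjugate `g⁻¹ S g` normalizes `C(a)`.
-/

set_option autoImplicit false

namespace Cfsg.Agent.Lib.Helper92.CS3

open Cfsg.Agent.Lib.Helper41.CS3

universe u

theorem mem_Cn_iff' {G : Type u} [Group G] (a h : G) : h ∈ Cn a ↔ a * h = h * a := by
  rw [Subgroup.mem_centralizer_iff]
  constructor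
  · intro H
    exact H a (Set.mem_singleton a)
  · intro H x hx
    rw [Set.mem_singleton_iff.mp hx]
    exact H

/-- **[CONJ]** -/
theorem pkgConj : PkgConj.{u} := by
  intro G _ _ s S a g hN
  refine ⟨g⁻¹ • S, ?_⟩
  intro σ' hσ' h hh
  have hσ : g * σ' * g⁻¹ ∈ (S : Subgroup G) := by
    have h1 := hσ'
    rw [Sylow.coe_subgroup_smul, Subgroup.mem_pointwise_smul_iff_inv_smul_mem] at h1
    simpa [MulAut.smul_def] using h1
  have hh' : g * h * g⁻¹ ∈ Cn (g * a * g⁻¹) := by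
    rw [mem_Cn_iff'] at hh ⊢
    calc g * a * g⁻¹ * (g * h * g⁻¹) = g * (a * h) * g⁻¹ := by group
      _ = g * (h * a) * g⁻¹ := by rw [hh]
      _ = g * h * g⁻¹ * (g * a * g⁻¹) := by group
  have h3 := hN (g * σ' * g⁻¹) hσ (g * h * g⁻¹) hh'
  rw [mem_Cn_iff'] at h3 ⊢
  have h4 : g⁻¹ * (g * a * g⁻¹ * (g * σ' * g⁻¹ * (g * h * g⁻¹) * (g * σ' * g⁻¹)⁻¹)) * g =
      g⁻¹ * (g * σ' * g⁻¹ * (g * h * g⁻¹) * (g * σ' * g⁻¹)⁻¹ * (g * a * g⁻¹)) * g := by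
    rw [h3]
  calc a * (σ' * h * σ'⁻¹)
      = g⁻¹ * (g * a * g⁻¹ * (g * σ' * g⁻¹ * (g * h * g⁻¹) * (g * σ' * g⁻¹)⁻¹)) * g := by group
    _ = g⁻¹ * (g * σ' * g⁻¹ * (g * h * g⁻¹) * (g * σ' * g⁻¹)⁻¹ * (g * a * g⁻¹)) * g := h4
    _ = σ' * h * σ'⁻¹ * a := by group

end Cfsg.Agent.Lib.Helper92.CS3
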